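import Mathlib
import Groth.Agent.H2.FlatPow

/-!
# Descent of flatness along finite injective ring maps: basic devissage lemmas
-/

set_option autoImplicit false
set_option linter.style.haveILetI false
universe u
open scoped TensorProduct
open Function (Injective Surjective Exact)

namespace Groth.Agent.H70.FinInjDesc

open Groth.Agent.H2

variable {A : Type u} [CommRing A] {M : Type u} [AddCommGroup M] [Module A M]

/-- If `B₂ ⊗ M` is flat over `B₂` and `B₂ → B₁` is a map of `A`-algebras, then `B₁ ⊗ M` is flat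
over `B₁`. -/
theorem flat_baseChange_of_algHom {B₂ B₁ : Type u} [CommRing B₂] [CommRing B₁] [Algebra A B₂]
    [Algebra A B₁] (ψ : B₂ →ₐ[A] B₁) [Module.Flat B₂ (B₂ ⊗[A] M)] :
    Module.Flat B₁ (B₁ ⊗[A] M) := by
  letI : Algebra B₂ B₁ := ψ.toRingHom.toAlgebra
  haveI : IsScalarTower A B₂ B₁ := IsScalarTower.of_algebraMap_eq (fun a => (ψ.commutes a).symm)
  haveI : Module.Flat B₁ (B₁ ⊗[B₂] (B₂ ⊗[A] M)) := inferInstance
  exact Module.Flat.of_linearEquiv
    (TensorProduct.AlgebraTensorModule.cancelBaseChange A B₂ B₁ B₁ M).symm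

/-- Tensoring with `M` preserves injections between modules killed by `N`, if `M/NM` is flat over
`A/N`. -/
theorem rTensor_injective_of_killed (N : Ideal A) [Module.Flat (A ⧸ N) ((A ⧸ N) ⊗[A] M)]
    {Q Q' : Type u} [AddCommGroup Q] [Module A Q] [AddCommGroup Q'] [Module A Q']
    (hQ : ∀ n ∈ N, ∀ q : Q, n • q = 0) (hQ' : ∀ n ∈ N, ∀ q : Q', n • q = 0)
    (g : Q →ₗ[A] Q') (hg : Injective g) : Injective (g.rTensor M) := by
  have tQ : Module.IsTorsionBySet A Q N := fun q n => hQ n n.2 q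
  have tQ' : Module.IsTorsionBySet A Q' N := fun q n => hQ' n n.2 q
  letI := tQ.module
  letI := tQ'.module
  haveI : IsScalarTower A (A ⧸ N) Q := tQ.isScalarTower
  haveI : IsScalarTower A (A ⧸ N) Q' := tQ'.isScalarTower
  let g' : Q →ₗ[A ⧸ N] Q' :=
    { toFun := g
      map_add' := g.map_add
      map_smul' := by
        intro c q
        obtain ⟨a, rfl⟩ := Ideal.Quotient.mk_surjective c
        change g (a • q) = a • g q
        exact g.map_smul a q }
  exact rTensor_injective_of_algebra_flat (A ⧸ N) g' hg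

/-- Devissage: if `I ⊓ J = ⊥`, `M/IM` is flat over `A/I` and `M/JM` is flat over `A/J`, then `M`
is flat over `A`. -/
theorem flat_of_inf_eq_bot (I J : Ideal A) (hIJ : I ⊓ J = ⊥)
    [Module.Flat (A ⧸ I) ((A ⧸ I) ⊗[A] M)] [Module.Flat (A ⧸ J) ((A ⧸ J) ⊗[A] M)] :
    Module.Flat A M := by
  have hmul : ∀ i ∈ I, ∀ j ∈ J, i * j = 0 := by
    intro i hi j hj
    have : i * j ∈ I ⊓ J := ⟨I.mul_mem_right _ hi, J.mul_mem_left _ hj⟩
    rwa [hIJ] at this
  -- `Tor_1(A/I, M) = 0`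
  have key : ∀ (I J : Ideal A), I ⊓ J = ⊥ → (∀ i ∈ I, ∀ j ∈ J, i * j = 0) →
      Module.Flat (A ⧸ J) ((A ⧸ J) ⊗[A] M) → Tor1Zero A (A ⧸ I) M := by
    intro I J hIJ hmul _
    rw [tor1Zero_quotient_iff]
    let g : I →ₗ[A] A ⧸ J := (Submodule.mkQ J).comp I.subtype
    have hg : Injective g := by
      rw [← LinearMap.ker_eq_bot, LinearMap.ker_eq_bot']
      intro x hx
      have hxJ : (x : A) ∈ J := by
        have : Submodule.mkQ J (x : A) = 0 := hx
        rwa [Submodule.mkQ_apply, Submodule.Quotient.mk_eq_zero] at this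
      have : (x : A) ∈ I ⊓ J := ⟨x.2, hxJ⟩
      rw [hIJ] at this
      exact Subtype.ext this
    have h1 : Injective (g.rTensor M) := by
      refine rTensor_injective_of_killed J ?_ ?_ g hg
      · intro n hn q
        apply Subtype.ext
        rw [Submodule.coe_smul, smul_eq_mul, mul_comm]
        exact hmul _ q.2 _ hn
      · intro n hn q
        obtain ⟨a, rfl⟩ := Submodule.mkQ_surjective J q
        rw [← map_smul, Submodule.mkQ_apply, Submodule.Quotient.mk_eq_zero, smul_eq_mul]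
        exact J.mul_mem_right _ hn
    have h2 : g.rTensor M = ((Submodule.mkQ J).rTensor M).comp (I.subtype.rTensor M) := by
      rw [← LinearMap.rTensor_comp]
    rw [h2] at h1
    exact Function.Injective.of_comp h1
  have hTI : Tor1Zero A (A ⧸ I) M := key I J hIJ hmul inferInstance
  have hTJ : Tor1Zero A (A ⧸ J) M :=
    key J I (by rw [inf_comm]; exact hIJ) (fun j hj i hi => by rw [mul_comm]; exact hmul i hi j hj)
      inferInstance
  rw [flat_iff_forall_tor1Zero]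
  intro Q _ _
  let Q₁ : Submodule A Q := I • ⊤
  have h1 : Tor1Zero A Q₁ M := by
    apply tor1Zero_of_pow_smul_eq_bot J hTJ 1
    rw [pow_one, eq_bot_iff, Submodule.smul_le]
    rintro j hj ⟨q, hq⟩ -
    rw [Submodule.mem_bot]
    apply Subtype.ext
    rw [Submodule.coe_smul, Submodule.coe_zero]
    have hq0 : ∀ q ∈ (I • ⊤ : Submodule A Q), j • q = 0 := by
      intro q hq
      refine Submodule.smul_induction_on hq ?_ ?_
      · intro i hi y _
        rw [smul_smul, mul_comm, hmul i hi j hj, zero_smul]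
      · intro x y hx hy
        rw [smul_add, hx, hy, add_zero]
    exact hq0 q hq
  have h2 : Tor1Zero A (Q ⧸ Q₁) M := by
    apply tor1Zero_of_pow_smul_eq_bot I hTI 1
    rw [pow_one, eq_bot_iff, Submodule.smul_le]
    intro i hi q _
    obtain ⟨y, rfl⟩ := Submodule.mkQ_surjective Q₁ q
    rw [Submodule.mem_bot, ← map_smul, Submodule.mkQ_apply, Submodule.Quotient.mk_eq_zero]
    exact Submodule.smul_mem_smul hi Submodule.mem_top
  exact tor1Zero_of_exact Q₁.subtype Q₁.mkQ (Submodule.injective_subtype _)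
    (LinearMap.exact_subtype_mkQ Q₁) (Submodule.mkQ_surjective Q₁) h1 h2

/-- Devissage, relative form: flatness modulo `I` and modulo `J` gives flatness modulo `I ⊓ J`. -/
theorem flat_quot_inf (I J : Ideal A) [Module.Flat (A ⧸ I) ((A ⧸ I) ⊗[A] M)]
    [Module.Flat (A ⧸ J) ((A ⧸ J) ⊗[A] M)] :
    Module.Flat (A ⧸ (I ⊓ J)) ((A ⧸ (I ⊓ J)) ⊗[A] M) := by
  have key : ∀ (I' : Ideal A), I ⊓ J ≤ I' → Module.Flat (A ⧸ I') ((A ⧸ I') ⊗[A] M) →
      Module.Flat ((A ⧸ (I ⊓ J)) ⧸ I'.map (Ideal.Quotient.mk (I ⊓ J)))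
        (((A ⧸ (I ⊓ J)) ⧸ I'.map (Ideal.Quotient.mk (I ⊓ J))) ⊗[A ⧸ (I ⊓ J)]
          ((A ⧸ (I ⊓ J)) ⊗[A] M)) := by
    intro I' hle _
    let ψ : (A ⧸ I') →ₐ[A] ((A ⧸ (I ⊓ J)) ⧸ I'.map (Ideal.Quotient.mk (I ⊓ J))) :=
      Ideal.Quotient.liftₐ I'
        (Algebra.ofId A ((A ⧸ (I ⊓ J)) ⧸ I'.map (Ideal.Quotient.mk (I ⊓ J)))) (by
          intro a ha
          change Ideal.Quotient.mk _ (Ideal.Quotient.mk (I ⊓ J) a) = 0
          rw [Ideal.Quotient.eq_zero_iff_mem]
          exact Ideal.mem_map_of_mem _ ha)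
    haveI : Module.Flat ((A ⧸ (I ⊓ J)) ⧸ I'.map (Ideal.Quotient.mk (I ⊓ J)))
        (((A ⧸ (I ⊓ J)) ⧸ I'.map (Ideal.Quotient.mk (I ⊓ J))) ⊗[A] M) :=
      flat_baseChange_of_algHom ψ
    exact Module.Flat.of_linearEquiv (TensorProduct.AlgebraTensorModule.cancelBaseChange A
      (A ⧸ (I ⊓ J)) ((A ⧸ (I ⊓ J)) ⧸ I'.map (Ideal.Quotient.mk (I ⊓ J)))
      ((A ⧸ (I ⊓ J)) ⧸ I'.map (Ideal.Quotient.mk (I ⊓ J))) M)
  haveI := key I inf_le_left inferInstance
  haveI := key J inf_le_right inferInstance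
  refine flat_of_inf_eq_bot (I.map (Ideal.Quotient.mk (I ⊓ J))) (J.map (Ideal.Quotient.mk (I ⊓ J))) ?_
  rw [eq_bot_iff]
  rintro x ⟨hxI, hxJ⟩
  obtain ⟨a, rfl⟩ := Ideal.Quotient.mk_surjective x
  have hxI' : a ∈ I := (Ideal.mem_quotient_iff_mem inf_le_left).mp hxI
  have hxJ' : a ∈ J := (Ideal.mem_quotient_iff_mem inf_le_right).mp hxJ
  rw [Submodule.mem_bot, Ideal.Quotient.eq_zero_iff_mem]
  exact ⟨hxI', hxJ'⟩

/-- Devissage for a finite intersection. -/
theorem flat_quot_finset_inf {ι : Type*} (s : Finset ι) (𝔞 : ι → Ideal A)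
    (h : ∀ j ∈ s, Module.Flat (A ⧸ 𝔞 j) ((A ⧸ 𝔞 j) ⊗[A] M)) :
    ∀ K : Ideal A, K = s.inf 𝔞 → Module.Flat (A ⧸ K) ((A ⧸ K) ⊗[A] M) := by
  classical
  induction s using Finset.induction_on with
  | empty =>
    intro K hK
    rw [Finset.inf_empty] at hK
    subst hK
    haveI : Subsingleton (A ⧸ (⊤ : Ideal A)) := Ideal.Quotient.subsingleton_iff.mpr rfl
    haveI : Subsingleton ((A ⧸ (⊤ : Ideal A)) ⊗[A] M) := Module.subsingleton (A ⧸ (⊤ : Ideal A)) _
    infer_instance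
  | insert j s hj ih =>
    intro K hK
    rw [Finset.inf_insert] at hK
    subst hK
    haveI := h j (Finset.mem_insert_self j s)
    haveI := ih (fun k hk => h k (Finset.mem_insert_of_mem hk)) _ rfl
    exact flat_quot_inf _ _

end Groth.Agent.H70.FinInjDesc
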