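import Mathlib
import Groth.Agent.H70.FinInjDesc.Basic

/-!
# Flatness over a nilpotent thickening, in the presence of an injective ring extension
-/

set_option autoImplicit false
set_option linter.style.haveILetI false
universe u
open scoped TensorProduct
open Function (Injective Surjective Exact)

namespace Groth.Agent.H70.FinInjDesc

open Groth.Agent.H2

variable {A : Type u} [CommRing A] {M : Type u} [AddCommGroup M] [Module A M]
variable {B : Type u} [CommRing B] [Algebra A B]

/-- the `B`-submodule `N Q'` of a `B`-module `Q'`, for an ideal `N` of `A` -/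
def smulTopB (N : Ideal A) (Q' : Type u) [AddCommGroup Q'] [Module A Q'] [Module B Q']
    [IsScalarTower A B Q'] : Submodule B Q' where
  carrier := (N • ⊤ : Submodule A Q')
  add_mem' := fun ha hb => (N • ⊤ : Submodule A Q').add_mem ha hb
  zero_mem' := (N • ⊤ : Submodule A Q').zero_mem
  smul_mem' := by
    intro b x hx
    have hx' : x ∈ (N • ⊤ : Submodule A Q') := hx
    change b • x ∈ (N • ⊤ : Submodule A Q')
    refine Submodule.smul_induction_on hx' ?_ ?_
    · intro n hn y _
      rw [smul_comm]
      exact Submodule.smul_mem_smul hn Submodule.mem_top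
    · intro y z hy hz
      rw [smul_add]
      exact Submodule.add_mem _ hy hz

theorem mem_smulTopB {N : Ideal A} {Q' : Type u} [AddCommGroup Q'] [Module A Q'] [Module B Q']
    [IsScalarTower A B Q'] {x : Q'} :
    x ∈ smulTopB (B := B) N Q' ↔ x ∈ (N • ⊤ : Submodule A Q') := Iff.rfl

/-- Key lemma: if `M/NM` is flat over `A/N` and `B ⊗ M` is flat over `B`, then `- ⊗_A M` preserves
injectivity of `A`-linear maps into `B`-modules killed by a power of `N`. -/
theorem rTensor_injective_of_pow_killed (N : Ideal A)
    [Module.Flat (A ⧸ N) ((A ⧸ N) ⊗[A] M)] [Module.Flat B (B ⊗[A] M)] :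
    ∀ (j : ℕ) (Q Q' : Type u) [AddCommGroup Q] [Module A Q] [AddCommGroup Q'] [Module A Q']
      [Module B Q'] [IsScalarTower A B Q'],
      (∀ a ∈ N ^ j, ∀ q : Q', a • q = 0) → ∀ g : Q →ₗ[A] Q', Injective g →
        Injective (g.rTensor M) := by
  intro j
  induction j with
  | zero =>
    intro Q Q' _ _ _ _ _ _ hkill g hg
    have hQ' : ∀ q : Q', q = 0 := fun q => by
      have := hkill 1 (by rw [pow_zero, Ideal.one_eq_top]; trivial) q
      rwa [one_smul] at this
    haveI : Subsingleton Q := ⟨fun x y => hg ((hQ' _).trans (hQ' _).symm)⟩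
    exact Function.injective_of_subsingleton _
  | succ j ih =>
    intro Q Q' _ _ _ _ _ _ hkill g hg
    let Q'₁ : Submodule B Q' := smulTopB (B := B) N Q'
    let Q'₁A : Submodule A Q' := Q'₁.restrictScalars A
    let Q₁ : Submodule A Q := Q'₁A.comap g
    -- the restricted map
    let g₁ : Q₁ →ₗ[A] Q'₁ := g.restrict (p := Q₁) (q := Q'₁A) (fun x hx => hx)
    have hg₁ : Injective g₁ := by
      intro x y hxy
      apply Subtype.ext
      apply hg
      exact congrArg Subtype.val hxy
    have hkill₁ : ∀ a ∈ N ^ j, ∀ q : Q'₁, a • q = 0 := by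
      intro a ha q
      apply Subtype.ext
      have hq : (q : Q') ∈ (N • ⊤ : Submodule A Q') := q.2
      have : a • (q : Q') = 0 := by
        refine Submodule.smul_induction_on hq ?_ ?_
        · intro n hn y _
          rw [smul_smul]
          exact hkill _ (by rw [pow_succ]; exact Ideal.mul_mem_mul ha hn) y
        · intro y z hy hz
          rw [smul_add, hy, hz, add_zero]
      exact this
    have ih₁ : Injective (g₁.rTensor M) := ih Q₁ Q'₁ hkill₁ g₁ hg₁
    -- the quotient map
    let gbar : Q ⧸ Q₁ →ₗ[A] Q' ⧸ Q'₁A := Submodule.mapQ Q₁ Q'₁A g le_rfl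
    have hgbar : Injective gbar := by
      rw [← LinearMap.ker_eq_bot, LinearMap.ker_eq_bot']
      intro x hx
      obtain ⟨q, rfl⟩ := Submodule.mkQ_surjective Q₁ x
      have : Submodule.Quotient.mk (p := Q'₁A) (g q) = 0 := hx
      rw [Submodule.Quotient.mk_eq_zero] at this
      rw [Submodule.mkQ_apply, Submodule.Quotient.mk_eq_zero]
      exact this
    have hbar : Injective (gbar.rTensor M) := by
      refine rTensor_injective_of_killed N ?_ ?_ gbar hgbar
      · intro n hn x
        obtain ⟨q, rfl⟩ := Submodule.mkQ_surjective Q₁ x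
        rw [← map_smul, Submodule.mkQ_apply, Submodule.Quotient.mk_eq_zero]
        change g (n • q) ∈ (N • ⊤ : Submodule A Q')
        rw [map_smul]
        exact Submodule.smul_mem_smul hn Submodule.mem_top
      · intro n hn x
        obtain ⟨q, rfl⟩ := Submodule.mkQ_surjective Q'₁A x
        rw [← map_smul, Submodule.mkQ_apply, Submodule.Quotient.mk_eq_zero]
        exact Submodule.smul_mem_smul hn Submodule.mem_top
    -- inclusion of `Q'₁` into `Q'`
    have hincl : Injective ((Q'₁.subtype.restrictScalars A).rTensor M) :=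
      rTensor_injective_of_algebra_flat B Q'₁.subtype (Submodule.injective_subtype _)
    -- the chase
    rw [injective_iff_map_eq_zero]
    intro x hx
    have h1 : (Q₁.mkQ).rTensor M x = 0 := by
      apply hbar
      rw [map_zero, ← LinearMap.comp_apply, ← LinearMap.rTensor_comp]
      have : gbar ∘ₗ Q₁.mkQ = Q'₁A.mkQ ∘ₗ g := by
        ext q
        rfl
      rw [this, LinearMap.rTensor_comp, LinearMap.comp_apply, hx, map_zero]
    obtain ⟨x', rfl⟩ := (rTensor_exact M (LinearMap.exact_subtype_mkQ Q₁)
      (Submodule.mkQ_surjective Q₁) x).mp h1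
    have h2 : g₁.rTensor M x' = 0 := by
      apply hincl
      rw [map_zero, ← LinearMap.comp_apply, ← LinearMap.rTensor_comp]
      have : (Q'₁.subtype.restrictScalars A) ∘ₗ g₁ = g ∘ₗ Q₁.subtype := by
        ext q
        rfl
      rw [this, LinearMap.rTensor_comp, LinearMap.comp_apply]
      exact hx
    rw [ih₁ (by rw [h2, map_zero] : g₁.rTensor M x' = g₁.rTensor M 0), map_zero]

/-- **Nilpotent lemma**: let `A → B` be an injective ring map, `N` a nilpotent ideal of `A` with
`M/NM` flat over `A/N`, and `B ⊗ M` flat over `B`.  Then `M` is flat over `A`. -/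
theorem flat_of_isNilpotent_of_injective (hinj : Injective (algebraMap A B)) (N : Ideal A)
    (hN : IsNilpotent N) [Module.Flat (A ⧸ N) ((A ⧸ N) ⊗[A] M)] [Module.Flat B (B ⊗[A] M)] :
    Module.Flat A M := by
  obtain ⟨k, hk⟩ := hN
  refine flat_of_isNilpotent_of_tor1Zero N ⟨k, hk⟩ ?_
  rw [tor1Zero_quotient_iff]
  let g : N →ₗ[A] B := (Algebra.linearMap A B).comp N.subtype
  have hg : Injective g := hinj.comp (Submodule.injective_subtype _)
  have h1 : Injective (g.rTensor M) := by
    refine rTensor_injective_of_pow_killed (B := B) N k N B ?_ g hg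
    intro a ha q
    rw [hk] at ha
    rw [(Submodule.mem_bot A).mp ha, zero_smul]
  have h2 : g.rTensor M = ((Algebra.linearMap A B).rTensor M).comp (N.subtype.rTensor M) := by
    rw [← LinearMap.rTensor_comp]
  rw [h2] at h1
  exact Function.Injective.of_comp h1

end Groth.Agent.H70.FinInjDesc
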