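import Mathlib
import Groth.Agent.H70.FinInjDesc.Nilp

/-!
# Descent of flatness along an injective extension generated by one element killed by a split
monic polynomial
-/

set_option autoImplicit false
set_option linter.style.haveILetI false
universe u
open scoped TensorProduct
open Function (Injective Surjective Exact)

namespace Groth.Agent.H70.FinInjDesc

variable {A B : Type u} [CommRing A] [CommRing B] [Algebra A B]

theorem surjective_algebraMap_quotient_of_adjoin (t : B) (hgen : Algebra.adjoin A {t} = ⊤)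
    (a : A) :
    Surjective (algebraMap A (B ⧸ Ideal.span {t - algebraMap A B a})) := by
  intro x
  obtain ⟨b, rfl⟩ := Ideal.Quotient.mk_surjective x
  have hmk : ∀ r : A, algebraMap A (B ⧸ Ideal.span {t - algebraMap A B a}) r =
      Ideal.Quotient.mk (Ideal.span {t - algebraMap A B a}) (algebraMap A B r) := fun r => rfl
  have hb : b ∈ Algebra.adjoin A {t} := by rw [hgen]; trivial
  induction hb using Algebra.adjoin_induction with
  | mem y hy =>
    rw [Set.mem_singleton_iff] at hy
    refine ⟨a, ?_⟩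
    rw [hmk, hy]
    symm
    rw [Ideal.Quotient.eq]
    exact Ideal.subset_span rfl
  | algebraMap r =>
    exact ⟨r, hmk r⟩
  | add y z _ _ hy hz =>
    obtain ⟨r, hr⟩ := hy
    obtain ⟨s, hs⟩ := hz
    exact ⟨r + s, by rw [map_add, map_add, hr, hs]⟩
  | mul y z _ _ hy hz =>
    obtain ⟨r, hr⟩ := hy
    obtain ⟨s, hs⟩ := hz
    exact ⟨r * s, by rw [map_mul, map_mul, hr, hs]⟩

theorem pow_card_le_prod {R : Type*} [CommRing R] {ι : Type*} (s : Finset ι) (I : Ideal R)
    (𝔮 : ι → Ideal R) (h : ∀ j ∈ s, I ≤ 𝔮 j) : I ^ s.card ≤ ∏ j ∈ s, 𝔮 j := by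
  classical
  induction s using Finset.induction_on with
  | empty => simp
  | insert j s hj ih =>
    rw [Finset.card_insert_of_notMem hj, Finset.prod_insert hj, pow_succ, mul_comm]
    exact Ideal.mul_mono (h j (Finset.mem_insert_self j s))
      (ih fun k hk => h k (Finset.mem_insert_of_mem hk))

/-- Descent of flatness along an injective extension `A ⊆ B = A[t]` with `∏ (t - α j) = 0`. -/
theorem flat_of_oneGen (hinj : Injective (algebraMap A B)) (t : B)
    (hgen : Algebra.adjoin A {t} = ⊤) {d : ℕ} (α : Fin d → A)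
    (hprod : ∏ j, (t - algebraMap A B (α j)) = 0)
    (M : Type u) [AddCommGroup M] [Module A M] [Module.Flat B (B ⊗[A] M)] :
    Module.Flat A M := by
  let 𝔮 : Fin d → Ideal B := fun j => Ideal.span {t - algebraMap A B (α j)}
  let 𝔞 : Fin d → Ideal A := fun j => RingHom.ker (Algebra.ofId A (B ⧸ 𝔮 j))
  have hP : ∀ j ∈ (Finset.univ : Finset (Fin d)),
      Module.Flat (A ⧸ 𝔞 j) ((A ⧸ 𝔞 j) ⊗[A] M) := by
    intro j _
    haveI : Module.Flat (B ⧸ 𝔮 j) ((B ⧸ 𝔮 j) ⊗[A] M) :=
      flat_baseChange_of_algHom (Ideal.Quotient.mkₐ A (𝔮 j))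
    have hs : Surjective (Algebra.ofId A (B ⧸ 𝔮 j)) :=
      surjective_algebraMap_quotient_of_adjoin t hgen (α j)
    let e : (A ⧸ 𝔞 j) ≃ₐ[A] (B ⧸ 𝔮 j) := Ideal.quotientKerAlgEquivOfSurjective hs
    exact flat_baseChange_of_algHom e.symm.toAlgHom
  let N' : Ideal A := Finset.univ.inf 𝔞
  haveI : Module.Flat (A ⧸ N') ((A ⧸ N') ⊗[A] M) :=
    flat_quot_finset_inf Finset.univ 𝔞 hP N' rfl
  have hmap : ∀ j, N'.map (algebraMap A B) ≤ 𝔮 j := by
    intro j
    rw [Ideal.map_le_iff_le_comap]
    intro x hx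
    have hx' : x ∈ 𝔞 j := (Finset.inf_le (Finset.mem_univ j) : N' ≤ 𝔞 j) hx
    rw [Ideal.mem_comap]
    have h0 : Ideal.Quotient.mk (𝔮 j) (algebraMap A B x) = 0 := hx'
    rw [Ideal.Quotient.eq_zero_iff_mem] at h0
    exact h0
  have hnil : N' ^ d = ⊥ := by
    rw [eq_bot_iff]
    intro x hx
    rw [Submodule.mem_bot]
    apply hinj
    rw [map_zero]
    have h1 : algebraMap A B x ∈ (N'.map (algebraMap A B)) ^ d := by
      rw [← Ideal.map_pow]
      exact Ideal.mem_map_of_mem _ hx
    have h2 : (N'.map (algebraMap A B)) ^ d ≤ ∏ j, 𝔮 j := by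
      have := pow_card_le_prod (Finset.univ : Finset (Fin d)) (N'.map (algebraMap A B)) 𝔮
        (fun j _ => hmap j)
      rwa [Finset.card_univ, Fintype.card_fin] at this
    have h3 : ∏ j, 𝔮 j = ⊥ := by
      rw [Ideal.prod_span_singleton, hprod]
      exact Ideal.span_singleton_eq_bot.mpr rfl
    have h4 := h2 h1
    rw [h3] at h4
    exact h4
  exact flat_of_isNilpotent_of_injective hinj N' ⟨d, hnil⟩

end Groth.Agent.H70.FinInjDesc
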