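import Mathlib
import Groth.Agent.H70.FinInjDesc.OneGen
import Groth.Agent.S6886

/-!
# Descent of flatness along finite injective ring maps (no Noetherian hypothesis)
-/

set_option autoImplicit false
set_option linter.style.haveILetI false
universe u
open scoped TensorProduct
open Function (Injective Surjective Exact)

namespace Groth.Agent.H70.FinInjDesc

/-- Flatness descends along `A → B`. -/
def Descends (A B : Type u) [CommRing A] [CommRing B] [Algebra A B] : Prop :=
  ∀ (M : Type u) [AddCommGroup M] [Module A M], Module.Flat B (B ⊗[A] M) → Module.Flat A M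

theorem Descends.trans {A B C : Type u} [CommRing A] [CommRing B] [CommRing C] [Algebra A B]
    [Algebra B C] [Algebra A C] [IsScalarTower A B C] (h1 : Descends A B) (h2 : Descends B C) :
    Descends A C := by
  intro M _ _ hC
  apply h1 M
  apply h2 (B ⊗[A] M)
  exact Module.Flat.of_linearEquiv (TensorProduct.AlgebraTensorModule.cancelBaseChange A B C C M)

theorem Descends.of_bijective {A B : Type u} [CommRing A] [CommRing B] [Algebra A B]
    (h : Function.Bijective (algebraMap A B)) : Descends A B := by
  intro M _ _ hB
  let e : A ≃ₐ[A] B := AlgEquiv.ofBijective (Algebra.ofId A B) h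
  haveI : Module.Flat A (A ⊗[A] M) := flat_baseChange_of_algHom e.symm.toAlgHom
  exact Module.Flat.of_linearEquiv (TensorProduct.lid A M).symm

theorem Descends.of_oneGen {A B : Type u} [CommRing A] [CommRing B] [Algebra A B]
    (hinj : Injective (algebraMap A B)) (t : B)
    (hgen : Algebra.adjoin A {t} = ⊤) {d : ℕ} (α : Fin d → A)
    (hprod : ∏ j, (t - algebraMap A B (α j)) = 0) : Descends A B := by
  intro M _ _ hB
  exact flat_of_oneGen hinj t hgen α hprod M

theorem descends_of_adjoin_fin : ∀ (n : ℕ) (A B : Type u) [CommRing A] [CommRing B] [Algebra A B],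
    Injective (algebraMap A B) → ∀ (t : Fin n → B), Algebra.adjoin A (Set.range t) = ⊤ →
    ∀ (d : Fin n → ℕ) (α : (i : Fin n) → Fin (d i) → A),
    (∀ i, ∏ j, (t i - algebraMap A B (α i j)) = 0) → Descends A B := by
  intro n
  induction n with
  | zero =>
    intro A B _ _ _ hinj t hgen d α hprod
    apply Descends.of_bijective
    refine ⟨hinj, ?_⟩
    rw [Algebra.surjective_algebraMap_iff, ← hgen]
    have : Set.range t = ∅ := Set.range_eq_empty t
    rw [this, Algebra.adjoin_empty]
  | succ n ih =>
    intro A B _ _ _ hinj t hgen d α hprod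
    let B₀ : Subalgebra A B := Algebra.adjoin A (Set.range (t ∘ Fin.castSucc))
    -- first step
    have hinj₀ : Injective (algebraMap A B₀) := by
      intro x y hxy
      apply hinj
      exact congrArg Subtype.val hxy
    let t₀ : Fin n → B₀ := fun i => ⟨t (Fin.castSucc i), Algebra.subset_adjoin ⟨i, rfl⟩⟩
    have hgen₀ : Algebra.adjoin A (Set.range t₀) = ⊤ := by
      have h := Algebra.adjoin_adjoin_coe_preimage (R := A) (s := Set.range (t ∘ Fin.castSucc))
      have hset : Set.range t₀ = ((↑) : B₀ → B) ⁻¹' (Set.range (t ∘ Fin.castSucc)) := by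
        ext x
        constructor
        · rintro ⟨i, rfl⟩
          exact ⟨i, rfl⟩
        · rintro ⟨i, hi⟩
          exact ⟨i, Subtype.ext hi⟩
      rw [hset]
      exact h
    have hprod₀ : ∀ i, ∏ j, (t₀ i - algebraMap A B₀ (α (Fin.castSucc i) j)) = 0 := by
      intro i
      apply Subtype.ext
      have h := hprod (Fin.castSucc i)
      have h2 : B₀.val (∏ j, (t₀ i - algebraMap A B₀ (α (Fin.castSucc i) j))) =
          ∏ j, (t (Fin.castSucc i) - algebraMap A B (α (Fin.castSucc i) j)) := by
        rw [map_prod]
        rfl
      exact h2.trans h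
    have h1 : Descends A B₀ :=
      ih A B₀ hinj₀ t₀ hgen₀ (fun i => d (Fin.castSucc i)) (fun i => α (Fin.castSucc i)) hprod₀
    -- second step
    have hinj₁ : Injective (algebraMap B₀ B) := Subtype.val_injective
    have hgen₁ : Algebra.adjoin B₀ {t (Fin.last n)} = ⊤ := by
      rw [eq_top_iff]
      intro b _
      have hb : b ∈ Algebra.adjoin A (Set.range t) := by rw [hgen]; trivial
      induction hb using Algebra.adjoin_induction with
      | mem y hy =>
        obtain ⟨i, rfl⟩ := hy
        induction i using Fin.lastCases with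
        | last => exact Algebra.subset_adjoin rfl
        | cast i =>
          have : t (Fin.castSucc i) = algebraMap B₀ B (t₀ i) := rfl
          rw [this]
          exact Subalgebra.algebraMap_mem _ _
      | algebraMap r =>
        have : algebraMap A B r = algebraMap B₀ B (algebraMap A B₀ r) := rfl
        rw [this]
        exact Subalgebra.algebraMap_mem _ _
      | add y z _ _ hy hz => exact Subalgebra.add_mem _ (hy trivial) (hz trivial)
      | mul y z _ _ hy hz => exact Subalgebra.mul_mem _ (hy trivial) (hz trivial)
    have hprod₁ : ∏ j, (t (Fin.last n) - algebraMap B₀ B (algebraMap A B₀ (α (Fin.last n) j))) = 0 :=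
      hprod (Fin.last n)
    have h2 : Descends B₀ B :=
      Descends.of_oneGen hinj₁ (t (Fin.last n)) hgen₁
        (fun j => algebraMap A B₀ (α (Fin.last n) j)) hprod₁
    exact Descends.trans h1 h2

/-- **Descent of flatness along finite injective ring maps** (no Noetherian hypothesis):
if `R → S` is finite and injective and `S ⊗_R M` is flat over `S`, then `M` is flat over `R`. -/
theorem flat_of_finite_injective (R S : Type u) [CommRing R] [CommRing S] [Algebra R S]
    [Module.Finite R S] (hinj : Injective (algebraMap R S))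
    (M : Type u) [AddCommGroup M] [Module R M] [Module.Flat S (S ⊗[R] M)] : Module.Flat R M := by
  obtain ⟨R', _, _, hfin, hfree, hinj', n, d, α, φ, hφ, hrel⟩ := Groth.Agent.S6886.result R S
  haveI : Module.Free R R' := hfree
  have hinjS' : Injective (algebraMap R' (R' ⊗[R] S)) :=
    Algebra.TensorProduct.includeLeft_injective (S := R') (A := R') (B := S) hinj
  have hgen : Algebra.adjoin R' (Set.range fun i => φ (MvPolynomial.X i)) = ⊤ := by
    have h1 : (Set.range fun i => φ (MvPolynomial.X i)) =
        φ '' (Set.range (MvPolynomial.X : Fin n → MvPolynomial (Fin n) R')) := by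
      rw [← Set.range_comp]
      rfl
    rw [h1, Algebra.adjoin_image, MvPolynomial.adjoin_range_X, Algebra.map_top,
      AlgHom.range_eq_top]
    exact hφ
  have hprod : ∀ i, ∏ j, (φ (MvPolynomial.X i) - algebraMap R' (R' ⊗[R] S) (α i j)) = 0 := by
    intro i
    rw [← hrel i, map_prod]
    refine Finset.prod_congr rfl fun j _ => ?_
    rw [map_sub, ← MvPolynomial.algebraMap_eq, AlgHom.commutes]
  have hD : Descends R' (R' ⊗[R] S) :=
    descends_of_adjoin_fin n R' (R' ⊗[R] S) hinjS' (fun i => φ (MvPolynomial.X i)) hgen d α hprod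
  haveI : Module.Flat (R' ⊗[R] S) ((R' ⊗[R] S) ⊗[R] M) :=
    flat_baseChange_of_algHom (A := R)
      (Algebra.TensorProduct.includeRight : S →ₐ[R] R' ⊗[R] S)
  haveI : Module.Flat (R' ⊗[R] S) ((R' ⊗[R] S) ⊗[R'] (R' ⊗[R] M)) :=
    Module.Flat.of_linearEquiv (TensorProduct.AlgebraTensorModule.cancelBaseChange R R'
      (R' ⊗[R] S) (R' ⊗[R] S) M)
  haveI : Module.Flat R' (R' ⊗[R] M) := hD (R' ⊗[R] M) inferInstance
  rcases subsingleton_or_nontrivial R with hR | hR
  · haveI : Subsingleton M := Module.subsingleton R M
    infer_instance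
  · haveI : Nontrivial R' := hinj'.nontrivial
    haveI : Module.FaithfullyFlat R R' := inferInstance
    exact Module.Flat.of_flat_tensorProduct R M R'

end Groth.Agent.H70.FinInjDesc
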